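import Cfsg.Agent.H510.Jump.Red
import Cfsg.Agent.H671.Frame
import Cfsg.Agent.H988.CopCyc.Main
import Cfsg.Agent.S0205

/-!
# S4844, PS-8: `|O_p(G / V)| ≤ p` (helper510)
-/

set_option autoImplicit false

namespace Cfsg.Agent.H510.Jump

open Subgroup Cfsg Cfsg.Agent.Characters.Core

universe u

/-- **PS-8 for a nonabelian `V`.** -/
theorem jump_nab {p : ℕ} [hp : Fact p.Prime] {G : Type u} [Group G] [Finite G] (hyp : Cfsg.Agent.H696.PSq.Hyp p G)
    (hcore : pCore p G = ⊥) {V : Subgroup G} [hVn : V.Normal]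
    (hmin : ∀ N : Subgroup G, N.Normal → N ≤ V → N = ⊥ ∨ N = V) (hna : ¬ IsMulCommutative V)
    (hcop : ¬ p ∣ Nat.card V) {U : Subgroup G} [U.Normal] (hVU : V ≤ U) {k : ℕ}
    (hk : Nat.card U = p ^ k * Nat.card V) : k ≤ 1 := by
  classical
  obtain ⟨A, iA, iA', φ, hA, hAc, hφ, hS⟩ := exists_action hyp hcore hcop hVU hk
  have hVb : V ≠ ⊥ := by
    rintro rfl
    exact hna ⟨⟨fun a b => Subsingleton.elim _ _⟩⟩
  obtain ⟨T, iT, iT', m, hm, hT, ⟨e⟩⟩ := H671.Frame.minNormal_pi hVn hVb hmin hna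
  have hfT : Finite T := by
    have : Finite (Fin m → T) := Finite.of_equiv _ e.toEquiv
    have h0 : Fin m := ⟨0, hm⟩
    exact Finite.of_surjective (fun f : Fin m → T => f h0) fun s => ⟨fun _ => s, rfl⟩
  have hcard : Nat.card V = Nat.card T ^ m := by
    rw [Nat.card_congr e.toEquiv, Nat.card_fun, Nat.card_fin]
  have hTcop : ¬ p ∣ Nat.card T := by
    intro h1
    apply hcop
    rw [hcard]
    exact h1.trans (dvd_pow_self _ (by omega))
  have hp2 : p ≠ 2 := by
    rintro rfl
    have hodd : Odd (Nat.card V) := by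
      rw [← Nat.not_even_iff_odd, even_iff_two_dvd]
      exact hcop
    have hsol : Group.IsSolvable V := S0205.result hodd
    have hTs : Group.IsSolvable T := by
      have h0 : Fin m := ⟨0, hm⟩
      refine Group.isSolvable_of_surjective (f := (Pi.evalMonoidHom (fun _ : Fin m => T) h0).comp e.toMonoidHom) ?_
      intro t
      exact ⟨e.symm (fun _ => t), by simp⟩
    exact hT ⟨⟨fun a b => IsSimpleGroup.comm_iff_isSolvable.2 hTs a b⟩⟩
  let ψ : A →* MulAut (Fin m → T) := (MulAut.congr e).toMonoidHom.comp φ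
  have hψ : ∀ (a : A) (x : Fin m → T), ψ a x = e (φ a (e.symm x)) := fun a x => rfl
  have hψi : Function.Injective ψ := (MulAut.congr e).injective.comp hφ
  have hψS : Small p ψ := by
    intro θ hθ
    have h1 := hS (θ ∘ e) (isIrr_comp e.toMonoidHom e.surjective hθ)
    have h2 : stab ψ θ = stab φ (θ ∘ e) := by
      ext a
      rw [mem_stab, mem_stab]
      constructor
      · intro h x
        have := h (e x)
        rw [hψ, MulEquiv.symm_apply_apply] at this
        exact this
      · intro h x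
        have := h (e.symm x)
        rw [hψ]
        simp only [Function.comp, MulEquiv.apply_symm_apply] at this
        exact this
    rw [h2]
    exact h1
  have h1 := nab_aux hT ψ hA hp2 hTcop (H988.CopCyc.Main.cc hT) hψi hψS
  rw [hAc] at h1
  by_contra hcon
  push Not at hcon
  have h2 : p ^ 2 ≤ p ^ k := Nat.pow_le_pow_right hp.out.pos hcon
  have h3 := hp.out.one_lt
  nlinarith

/-- **PS-8.** -/
theorem jump {p : ℕ} [Fact p.Prime] {G : Type u} [Group G] [Finite G] (hyp : Cfsg.Agent.H696.PSq.Hyp p G)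
    (hcore : pCore p G = ⊥) {V : Subgroup G} [V.Normal]
    (hmin : ∀ N : Subgroup G, N.Normal → N ≤ V → N = ⊥ ∨ N = V)
    (hcop : ¬ p ∣ Nat.card V) {U : Subgroup G} [U.Normal] (hVU : V ≤ U) {k : ℕ}
    (hk : Nat.card U = p ^ k * Nat.card V) : k ≤ 1 := by
  by_cases hab : IsMulCommutative V
  · exact jump_ab hyp hcore hab hcop hVU hk
  · exact jump_nab hyp hcore hmin hab hcop hVU hk

end Cfsg.Agent.H510.Jump
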