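import Cfsg.Agent.H510.Jump.Ab
import Cfsg.Agent.H936.AutPow
import Cfsg.Agent.H699.CoprimeIto
import Cfsg.Agent.H988.CopCyc.Base
import Cfsg.Agent.S0188

/-!
# S4844, PS-8: coprime action on a power of a simple group with small orbits on characters (helper510)
-/

set_option autoImplicit false
set_option linter.style.haveILetI false
set_option linter.unusedSectionVars false

namespace Cfsg.Agent.H510.Jump

open Subgroup Cfsg Cfsg.Agent.Characters.Core

universe u v

/-- a coprime automorphism fixing all irreducible characters is trivial -/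
theorem eq_one_of_irr {T : Type u} [Group T] [Finite T] (β : MulAut T) (hβ : (Nat.card T).Coprime (orderOf β))
    (h : ∀ θ : T → ℂ, IsIrrCharacter T θ → θ ∘ β = θ) : β = 1 := by
  classical
  have hfin : Finite (MulAut T) := Finite.of_injective (fun a : MulAut T => (a : T → T)) DFunLike.coe_injective
  let Z := zpowers β
  let f : Z →* MulAut T := Z.subtype
  have hfin2 : Finite (T ⋊[f] Z) := Finite.of_equiv _ SemidirectProduct.equivProd.symm
  let D : Subgroup (T ⋊[f] Z) := (SemidirectProduct.inl : T →* T ⋊[f] Z).range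
  let B : Subgroup (T ⋊[f] Z) := (SemidirectProduct.inr : Z →* T ⋊[f] Z).range
  have hpow : ∀ b ∈ Z, ∀ θ : T → ℂ, IsIrrCharacter T θ → θ ∘ b = θ := by
    intro b hb θ hθ
    obtain ⟨n, rfl⟩ := mem_zpowers_iff.1 hb
    have hinv : θ ∘ (β⁻¹ : MulAut T) = θ := by
      funext x
      have := congrFun (h θ hθ) ((β⁻¹ : MulAut T) x)
      simp only [Function.comp, MulAut.apply_inv_self] at this
      simp only [Function.comp]
      exact this.symm
    have key : ∀ (c : MulAut T) (hc : θ ∘ c = θ) (m : ℕ), θ ∘ (c ^ m : MulAut T) = θ := by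
      intro c hc m
      induction m with
      | zero => rfl
      | succ m ih =>
        funext x
        rw [pow_succ]
        have h1 := congrFun ih (c x)
        have h2 := congrFun hc x
        simp only [Function.comp, MulAut.mul_apply] at h1 h2 ⊢
        rw [h1, h2]
    cases n with
    | ofNat m => exact key β (h θ hθ) m
    | negSucc m =>
      rw [zpow_negSucc, ← inv_pow]
      exact key _ hinv _
  have haut : ∀ (b : Z) (t : T), (SemidirectProduct.inr b : T ⋊[f] Z) * SemidirectProduct.inl t *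
      (SemidirectProduct.inr b)⁻¹ = SemidirectProduct.inl ((b : MulAut T) t) := by
    intro b t
    rw [← map_inv]
    exact (SemidirectProduct.inl_aut (φ := f) b t).symm
  have h1 := H699.CoprimeIto.le_centralizer_of_irr D B ?_ ?_ ?_ ?_
  · ext t
    have h2 : (SemidirectProduct.inr (⟨β, mem_zpowers β⟩ : Z) : T ⋊[f] Z) ∈ centralizer (D : Set _) := h1 ⟨_, rfl⟩
    have h3 := mem_centralizer_iff.1 h2 (SemidirectProduct.inl t) ⟨t, rfl⟩
    have h4 := haut ⟨β, mem_zpowers β⟩ t
    rw [← h3, mul_inv_cancel_right] at h4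
    exact (SemidirectProduct.inl_injective h4).symm
  · rintro _ ⟨b, rfl⟩ _ ⟨t, rfl⟩
    rw [haut]
    exact ⟨_, rfl⟩
  · have e1 : Nat.card D = Nat.card T :=
      (Nat.card_congr (MonoidHom.ofInjective (f := (SemidirectProduct.inl : T →* T ⋊[f] Z))
        SemidirectProduct.inl_injective).toEquiv).symm
    have e2 : Nat.card B = orderOf β := by
      rw [← Nat.card_zpowers]
      exact (Nat.card_congr (MonoidHom.ofInjective (f := (SemidirectProduct.inr : Z →* T ⋊[f] Z))
        SemidirectProduct.inr_injective).toEquiv).symm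
    rw [e1, e2]
    exact hβ
  · have : Group.IsSolvable Z := Group.isSolvable_of_comm fun a b => (IsCyclic.commGroup (α := Z)).mul_comm a b
    exact Group.isSolvable_of_surjective (MonoidHom.rangeRestrict_surjective _)
  · rintro χ _ ⟨b, rfl⟩ ⟨_, t, rfl⟩ ⟨_, t', rfl⟩ h2
    have h3 : SemidirectProduct.inl t' = (SemidirectProduct.inl ((b : MulAut T) t) : T ⋊[f] Z) := by
      rw [← haut]
      exact h2
    have h4 := SemidirectProduct.inl_injective h3
    subst h4
    let i : T →* D := MonoidHom.rangeRestrict _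
    have hi : Function.Surjective i := MonoidHom.rangeRestrict_surjective _
    exact congrFun (hpow b b.2 _ (isIrr_comp i hi χ.2)) t

/-- the stabilizer of a function -/
def stab {A : Type*} [Group A] {W : Type*} [Group W] (φ : A →* MulAut W) (θ : W → ℂ) : Subgroup A where
  carrier := {a | θ ∘ (φ a : MulAut W) = θ}
  one_mem' := by
    show θ ∘ (φ 1 : MulAut W) = θ
    rw [map_one]; rfl
  mul_mem' := by
    intro a b ha hb
    show θ ∘ (φ (a * b) : MulAut W) = θ
    funext x
    have h1 := congrFun (show θ ∘ (φ a : MulAut W) = θ from ha) (φ b x)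
    have h2 := congrFun (show θ ∘ (φ b : MulAut W) = θ from hb) x
    rw [map_mul]
    simp only [Function.comp, MulAut.mul_apply] at h1 h2 ⊢
    rw [h1, h2]
  inv_mem' := by
    intro a ha
    show θ ∘ (φ a⁻¹ : MulAut W) = θ
    funext x
    have h1 := congrFun (show θ ∘ (φ a : MulAut W) = θ from ha) (φ a⁻¹ x)
    simp only [Function.comp, map_inv, MulAut.apply_inv_self] at h1 ⊢
    exact h1.symm

theorem mem_stab {A : Type*} [Group A] {W : Type*} [Group W] {φ : A →* MulAut W} {θ : W → ℂ} {a : A} :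
    a ∈ stab φ θ ↔ ∀ x, θ (φ a x) = θ x := by
  show θ ∘ (φ a : MulAut W) = θ ↔ _
  rw [funext_iff]
  rfl

/-- all orbits on the irreducible characters have length at most `p` -/
def Small (p : ℕ) {A : Type*} [Group A] {W : Type*} [Group W] (φ : A →* MulAut W) : Prop :=
  ∀ θ : W → ℂ, IsIrrCharacter W θ → (stab φ θ).index ≤ p

/-- an irreducible character which is constant is trivial -/
theorem eq_one_of_const {T : Type*} [Group T] [Finite T] {θ : T → ℂ} (hθ : IsIrrCharacter T θ) (h : ∀ t, θ t = θ 1) :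
    θ = 1 := by
  classical
  letI := Fintype.ofFinite T
  by_contra hne
  have h1 := classInner_irr_ne hθ isIrr_one hne
  have h2 : classInner θ 1 = θ 1 := by
    rw [classInner_def]
    have hc : (Nat.card T : ℂ) ≠ 0 := by exact_mod_cast Nat.card_pos.ne'
    have : ∑ g : T, θ g * (starRingEnd ℂ) ((1 : T → ℂ) g) = Nat.card T * θ 1 := by
      rw [Finset.sum_congr rfl (g := fun _ => θ 1) (fun t _ => by rw [h t]; simp), Finset.sum_const, Finset.card_univ,
        nsmul_eq_mul, Nat.card_eq_fintype_card]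
    rw [this]
    field_simp
  rw [h2] at h1
  exact isIrr_apply_one_ne_zero hθ h1

/-! ## Powers of a simple group -/

section power

open Cfsg.Agent.H936

variable {p : ℕ} [hp : Fact p.Prime] {A : Type u} [Group A] [Finite A] {ι : Type} [Finite ι] [DecidableEq ι]
  {T : Type v} [Group T] [Finite T] [IsSimpleGroup T] (hT : ¬ IsMulCommutative T) (φ : A →* MulAut (ι → T))

/-- a function of one coordinate -/
def pr (i : ι) (θ : T → ℂ) : (ι → T) → ℂ := fun x => θ (x i)

omit [Finite ι] [Finite T] [IsSimpleGroup T] in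
theorem isIrr_pr (i : ι) {θ : T → ℂ} (hθ : IsIrrCharacter T θ) : IsIrrCharacter (ι → T) (pr i θ) :=
  isIrr_comp (Pi.evalMonoidHom (fun _ : ι => T) i) (fun t => ⟨Pi.mulSingle i t, by simp⟩) hθ

omit [Finite ι] [IsSimpleGroup T] in
theorem isIrr_pair {i j : ι} (hij : i ≠ j) {θ θ' : T → ℂ} (hθ : IsIrrCharacter T θ) (hθ' : IsIrrCharacter T θ') :
    IsIrrCharacter (ι → T) (fun x => θ (x i) * θ' (x j)) := by
  refine isIrr_comp ((Pi.evalMonoidHom (fun _ : ι => T) i).prod (Pi.evalMonoidHom (fun _ : ι => T) j)) ?_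
    (S0188.isIrr_outer hθ hθ')
  rintro ⟨s, t⟩
  refine ⟨Pi.mulSingle i s * Pi.mulSingle j t, ?_⟩
  apply Prod.ext
  · simp [Pi.mulSingle_eq_of_ne hij]
  · simp [Pi.mulSingle_eq_of_ne hij.symm]

omit [Finite A] in
include hT in
theorem perm_of_mem_stab {i : ι} {θ : T → ℂ} (hθ : IsIrrCharacter T θ) (hne : θ ≠ 1) {a : A}
    (ha : a ∈ stab φ (pr i θ)) : AutPow.perm hT (φ a) i = i := by
  obtain ⟨ψ, hψ⟩ := AutPow.perm_spec hT (φ a)
  by_contra hcon
  apply hne
  apply eq_one_of_const hθ
  intro t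
  have h1 := mem_stab.1 ha (Pi.mulSingle i t)
  have h2 := hψ (Pi.mulSingle i t) ((AutPow.perm hT (φ a)).symm i)
  have h3 : (AutPow.perm hT (φ a)).symm i ≠ i := by
    intro h3
    apply hcon
    rw [Equiv.symm_apply_eq] at h3
    exact h3.symm
  rw [Equiv.apply_symm_apply, Pi.mulSingle_eq_of_ne h3, map_one] at h2
  unfold pr at h1
  rw [h2, Pi.mulSingle_eq_same] at h1
  exact h1.symm

/-- the stabilizer of a coordinate -/
def Nn (i : ι) : Subgroup A where
  carrier := {a | AutPow.perm hT (φ a) i = i}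
  one_mem' := by
    show AutPow.perm hT (φ 1) i = i
    rw [map_one, map_one]; rfl
  mul_mem' := by
    intro a b ha hb
    show AutPow.perm hT (φ (a * b)) i = i
    have ha' : AutPow.perm hT (φ a) i = i := ha
    have hb' : AutPow.perm hT (φ b) i = i := hb
    rw [map_mul, map_mul, Equiv.Perm.mul_apply, hb', ha']
  inv_mem' := by
    intro a ha
    show AutPow.perm hT (φ a⁻¹) i = i
    have ha' : AutPow.perm hT (φ a) i = i := ha
    rw [map_inv, map_inv, Equiv.Perm.inv_eq_iff_eq]
    exact ha'.symm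

omit [Finite A] [Finite T] in
theorem form {i : ι} {a : A} (ha : a ∈ Nn hT φ i) : ∃ β : MulAut T, ∀ x, φ a x i = β (x i) := by
  obtain ⟨ψ, hψ⟩ := AutPow.perm_spec hT (φ a)
  have ha' : AutPow.perm hT (φ a) i = i := ha
  refine ⟨ψ i, fun x => ?_⟩
  have := hψ x i
  rwa [ha'] at this

/-- the action of the stabilizer of a coordinate on the coordinate -/
noncomputable def rho (i : ι) : Nn hT φ i →* MulAut T where
  toFun a := (form hT φ a.2).choose
  map_one' := by
    ext t
    have h1 := (form hT φ (1 : Nn hT φ i).2).choose_spec (Pi.mulSingle i t)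
    rw [Pi.mulSingle_eq_same] at h1
    rw [← h1]
    show φ 1 (Pi.mulSingle i t) i = t
    rw [map_one, MulAut.one_apply, Pi.mulSingle_eq_same]
  map_mul' := by
    intro a b
    ext t
    have h1 := (form hT φ (a * b).2).choose_spec (Pi.mulSingle i t)
    rw [Pi.mulSingle_eq_same] at h1
    rw [← h1, MulAut.mul_apply]
    have h2 := (form hT φ b.2).choose_spec (Pi.mulSingle i t)
    rw [Pi.mulSingle_eq_same] at h2
    rw [← h2, ← (form hT φ a.2).choose_spec]
    show φ (a * b) (Pi.mulSingle i t) i = _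
    rw [map_mul]
    rfl

omit [Finite A] [Finite T] in
theorem rho_spec {i : ι} (a : Nn hT φ i) (x : ι → T) : φ a x i = rho hT φ i a (x i) :=
  (form hT φ a.2).choose_spec x

/-- the centralizer of a factor -/
def Cc (i : ι) : Subgroup A where
  carrier := {a | ∀ t : T, φ a (Pi.mulSingle i t) = Pi.mulSingle i t}
  one_mem' := by
    intro t
    rw [map_one]; rfl
  mul_mem' := by
    intro a b ha hb t
    rw [map_mul, MulAut.mul_apply, hb t, ha t]
  inv_mem' := by
    intro a ha t
    have h1 := ha t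
    rw [map_inv]
    conv_lhs => rw [← h1]
    rw [MulAut.inv_apply_self]

omit [Finite A] [Finite T] in
theorem mem_Cc_iff {i : ι} {a : A} : a ∈ Cc φ i ↔ ∃ h : a ∈ Nn hT φ i, rho hT φ i ⟨a, h⟩ = 1 := by
  constructor
  · intro ha
    have h1 : AutPow.perm hT (φ a) i = i := by
      obtain ⟨t, ht⟩ := AutPow.exists_ne_one T
      have h2 := AutPow.perm_one_iff hT (φ a) (Pi.mulSingle i t) i
      rw [ha t, Pi.mulSingle_eq_same] at h2
      by_contra hcon
      rw [Pi.mulSingle_eq_of_ne hcon] at h2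
      exact ht (h2.1 rfl)
    refine ⟨h1, ?_⟩
    ext t
    have h2 := rho_spec hT φ ⟨a, h1⟩ (Pi.mulSingle i t)
    rw [Pi.mulSingle_eq_same] at h2
    rw [← h2]
    show φ a (Pi.mulSingle i t) i = t
    rw [ha t, Pi.mulSingle_eq_same]
  · rintro ⟨h1, h2⟩ t
    obtain ⟨ψ, hψ⟩ := AutPow.perm_spec hT (φ a)
    have h1' : AutPow.perm hT (φ a) i = i := h1
    funext j
    obtain ⟨l, rfl⟩ := (AutPow.perm hT (φ a)).surjective j
    by_cases hl : l = i
    · subst hl
      have h3 := rho_spec hT φ ⟨a, h1⟩ (Pi.mulSingle l t)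
      rw [h2, MulAut.one_apply] at h3
      rw [h1', ← h3]
    · rw [hψ, Pi.mulSingle_eq_of_ne hl, map_one, Pi.mulSingle_eq_of_ne]
      intro h3
      apply hl
      apply (AutPow.perm hT (φ a)).injective
      rw [h3, h1']

omit [Finite A] [Finite T] [IsSimpleGroup T] in
theorem Cc_le_stab {i : ι} (hT : ¬ IsMulCommutative T) [IsSimpleGroup T] (θ : T → ℂ) : Cc φ i ≤ stab φ (pr i θ) := by
  intro a ha
  obtain ⟨h1, h2⟩ := (mem_Cc_iff hT φ).1 ha
  rw [mem_stab]
  intro x
  show θ (φ a x i) = θ (x i)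
  have h3 := rho_spec hT φ ⟨a, h1⟩ x
  rw [h2, MulAut.one_apply] at h3
  rw [h3]

/-- elements fixing all characters of a factor -/
theorem mem_Cc_of_irr (hA : IsPGroup p A) (hcop : ¬ p ∣ Nat.card T) {i : ι} {a : A} (ha : a ∈ Nn hT φ i)
    (h : ∀ θ : T → ℂ, IsIrrCharacter T θ → θ ≠ 1 → a ∈ stab φ (pr i θ)) : a ∈ Cc φ i := by
  rw [mem_Cc_iff hT φ]
  refine ⟨ha, ?_⟩
  apply eq_one_of_irr
  · obtain ⟨k, hk⟩ := hA.exists_card_eq
    have h1 : orderOf (rho hT φ i ⟨a, ha⟩) ∣ p ^ k := by
      refine (orderOf_map_dvd _ _).trans ?_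
      rw [← hk]
      exact (_root_.orderOf_dvd_natCard _).trans (Subgroup.card_subgroup_dvd_card _)
    exact (((Nat.Prime.coprime_iff_not_dvd hp.out).2 hcop).symm.pow_right k).coprime_dvd_right h1
  · intro θ hθ
    by_cases h1 : θ = 1
    · rw [h1]; rfl
    funext t
    have h2 := mem_stab.1 (h θ hθ h1) (Pi.mulSingle i t)
    have h3 := rho_spec hT φ ⟨a, ha⟩ (Pi.mulSingle i t)
    unfold pr at h2
    rw [Pi.mulSingle_eq_same] at h2 h3
    show θ (rho hT φ i ⟨a, ha⟩ t) = θ t
    rw [← h3]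
    exact h2

theorem exists_irr_ne_one (T : Type*) [Group T] [Finite T] [Nontrivial T] : ∃ θ : T → ℂ, IsIrrCharacter T θ ∧ θ ≠ 1 := by
  obtain ⟨t, ht⟩ := exists_ne (1 : T)
  by_contra hcon
  push Not at hcon
  have h1 : IsConj t 1 := by
    rw [S0136.result]
    intro β
    rw [hcon β β.2]
    rfl
  exact ht (isConj_one_right.1 h1.symm)

include hT in
/-- a good character of a factor which is not centralized -/
theorem exists_theta (hA : IsPGroup p A) (hcop : ¬ p ∣ Nat.card T) (hCC : Cfsg.Agent.H988.CopCyc.CC T) (hS : Small p φ)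
    {i : ι} (hi : Cc φ i ≠ ⊤) :
    ∃ θ : T → ℂ, IsIrrCharacter T θ ∧ θ ≠ 1 ∧ stab φ (pr i θ) = Cc φ i ∧ (Cc φ i).index = p := by
  have hCN : Cc φ i ≤ Nn hT φ i := fun a ha => ((mem_Cc_iff hT φ).1 ha).1
  have hlow : ∀ θ : T → ℂ, stab φ (pr i θ) ≠ ⊤ → IsIrrCharacter T θ → (stab φ (pr i θ)).index = p := fun θ h1 h2 =>
    index_eq_of_le hA (hS _ (isIrr_pr i h2)) h1
  by_cases hN : Nn hT φ i = ⊤
  · -- the factor is normalized
    have hpow : ∀ a : A, a ^ p ∈ Cc φ i := by
      intro a
      refine mem_Cc_of_irr hT φ hA hcop (hN ▸ mem_top _) (fun θ hθ _ => ?_)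
      by_cases h1 : stab φ (pr i θ) = ⊤
      · rw [h1]; exact mem_top _
      · have h2 := hlow θ h1 hθ
        have h3 : (stab φ (pr i θ)).Normal := normal_of_index_le hA h2.le
        have h4 := (stab φ (pr i θ)).pow_index_mem a
        rwa [h2] at h4
    let j : A →* Nn hT φ i := (MonoidHom.id A).codRestrict (Nn hT φ i) (fun a => hN ▸ mem_top _)
    let f : A →* MulAut T := (rho hT φ i).comp j
    have hker : f.ker = Cc φ i := by
      ext a
      rw [mem_Cc_iff hT φ, MonoidHom.mem_ker]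
      constructor
      · intro h1
        exact ⟨hN ▸ mem_top _, h1⟩
      · rintro ⟨h1, h2⟩
        exact h2
    have hidx : (Cc φ i).index = Nat.card f.range := by
      rw [← hker]
      exact index_ker f
    have hcyc : IsCyclic f.range := by
      apply hCC
      obtain ⟨k, hk⟩ := hA.exists_card_eq
      have h1 : Nat.card f.range ∣ p ^ k := by
        rw [← hk, ← hidx]
        exact index_dvd_card _
      exact ((((Nat.Prime.coprime_iff_not_dvd hp.out).2 hcop).symm.pow_right k).coprime_dvd_right h1).symm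
    have hle : (Cc φ i).index ≤ p := by
      rw [hidx]
      obtain ⟨⟨_, a, rfl⟩, hg⟩ := hcyc.exists_generator
      have h1 : orderOf (⟨f a, a, rfl⟩ : f.range) = Nat.card f.range := orderOf_eq_card_of_forall_mem_zpowers hg
      rw [← h1]
      refine Nat.le_of_dvd hp.out.pos (orderOf_dvd_of_pow_eq_one ?_)
      apply Subtype.ext
      show f a ^ p = 1
      rw [← map_pow]
      exact (MonoidHom.mem_ker (f := f)).1 (hker ▸ hpow a)
    have hCi := index_eq_of_le hA hle hi
    obtain ⟨θ, hθ, hne, hst⟩ : ∃ θ : T → ℂ, IsIrrCharacter T θ ∧ θ ≠ 1 ∧ stab φ (pr i θ) ≠ ⊤ := by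
      by_contra hcon
      push Not at hcon
      apply hi
      rw [eq_top_iff]
      intro a _
      exact mem_Cc_of_irr hT φ hA hcop (hN ▸ mem_top _) (fun θ hθ h1 => hcon θ hθ h1 ▸ mem_top _)
    refine ⟨θ, hθ, hne, ?_, hCi⟩
    have h1 := Cc_le_stab φ hT θ (i := i)
    refine (eq_of_le_of_card_ge h1 ?_).symm
    have h2 := (stab φ (pr i θ)).card_mul_index
    have h3 := (Cc φ i).card_mul_index
    rw [hlow θ hst hθ] at h2
    rw [hCi, ← h2] at h3
    exact (Nat.eq_of_mul_eq_mul_right hp.out.pos h3).ge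
  · -- the factor is moved
    have key : ∀ θ : T → ℂ, IsIrrCharacter T θ → θ ≠ 1 → stab φ (pr i θ) = Nn hT φ i ∧ (Nn hT φ i).index = p := by
      intro θ hθ hne
      have h1 : stab φ (pr i θ) ≤ Nn hT φ i := fun a ha => perm_of_mem_stab hT φ hθ hne ha
      have h2 : stab φ (pr i θ) ≠ ⊤ := fun h2 => hN (top_le_iff.1 (h2 ▸ h1))
      have h3 := hlow θ h2 hθ
      have h4 : (Nn hT φ i).index = p :=
        index_eq_of_le hA ((Nat.le_of_dvd hp.out.pos (h3 ▸ index_dvd_of_le h1))) hN
      refine ⟨eq_of_le_of_card_ge h1 ?_, h4⟩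
      have h5 := (stab φ (pr i θ)).card_mul_index
      have h6 := (Nn hT φ i).card_mul_index
      rw [h3] at h5
      rw [h4, ← h5] at h6
      exact (Nat.eq_of_mul_eq_mul_right hp.out.pos h6).le
    have hCN' : Cc φ i = Nn hT φ i := by
      refine le_antisymm hCN (fun a ha => ?_)
      exact mem_Cc_of_irr hT φ hA hcop ha (fun θ hθ hne => (key θ hθ hne).1 ▸ ha)
    obtain ⟨θ, hθ, hne⟩ := exists_irr_ne_one T
    obtain ⟨h1, h2⟩ := key θ hθ hne
    exact ⟨θ, hθ, hne, by rw [h1, hCN'], by rw [hCN', h2]⟩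

include hT in
/-- the stabilizer of a product of two characters -/
theorem stab_pair {i j : ι} (hij : i ≠ j) {θ θ' : T → ℂ} (hθ : IsIrrCharacter T θ) (hne : θ ≠ 1)
    (hθ' : IsIrrCharacter T θ') (hne' : θ' ≠ 1) {a : A} (hodd : Odd (orderOf a))
    (ha : a ∈ stab φ (fun x => θ (x i) * θ' (x j))) : a ∈ stab φ (pr i θ) ∧ a ∈ stab φ (pr j θ') := by
  obtain ⟨ψ, hψ⟩ := AutPow.perm_spec hT (φ a)
  set σ := AutPow.perm hT (φ a) with hσ
  have h1 : θ 1 ≠ 0 := isIrr_apply_one_ne_zero hθ
  have h1' : θ' 1 ≠ 0 := isIrr_apply_one_ne_zero hθ'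
  have hst : ∀ x, θ (φ a x i) * θ' (φ a x j) = θ (x i) * θ' (x j) := mem_stab.1 ha
  have hval : ∀ x l, φ a x l = ψ (σ.symm l) (x (σ.symm l)) := by
    intro x l
    have := hψ x (σ.symm l)
    rwa [Equiv.apply_symm_apply] at this
  have hconst : ∀ (l : ι) (f : T → ℂ), IsIrrCharacter T f → (∀ t, f (ψ l t) = f 1) → f = 1 := by
    intro l f hf h2
    apply eq_one_of_const hf
    intro t
    have := h2 ((ψ l).symm t)
    rwa [MulEquiv.apply_symm_apply] at this
  have hji : σ.symm j ≠ σ.symm i := fun h => hij (σ.symm.injective h).symm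
  have hA1 : σ.symm i = i ∨ σ.symm i = j := by
    by_contra hcon
    push Not at hcon
    apply hne
    apply hconst (σ.symm i) θ hθ
    intro t
    have h2 := hst (Pi.mulSingle (σ.symm i) t)
    rw [hval, hval, Pi.mulSingle_eq_same, Pi.mulSingle_eq_of_ne hji, Pi.mulSingle_eq_of_ne hcon.1.symm,
      Pi.mulSingle_eq_of_ne hcon.2.symm, map_one] at h2
    exact mul_right_cancel₀ h1' h2
  have hA2 : σ.symm j = i ∨ σ.symm j = j := by
    by_contra hcon
    push Not at hcon
    apply hne'
    apply hconst (σ.symm j) θ' hθ'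
    intro t
    have h2 := hst (Pi.mulSingle (σ.symm j) t)
    rw [hval, hval, Pi.mulSingle_eq_same, Pi.mulSingle_eq_of_ne hji.symm, Pi.mulSingle_eq_of_ne hcon.1.symm,
      Pi.mulSingle_eq_of_ne hcon.2.symm, map_one] at h2
    exact mul_left_cancel₀ h1 h2
  have hA3 : σ.symm i = i := by
    rcases hA1 with h2 | h2
    · exact h2
    exfalso
    have h3 : σ.symm j = i := by
      rcases hA2 with h3 | h3
      · exact h3
      · exact absurd (h3.trans h2.symm) hji
    have h4 : σ i = j := by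
      rw [← h3, Equiv.apply_symm_apply]
    have h5 : σ j = i := by
      rw [← h2, Equiv.apply_symm_apply]
    obtain ⟨m, hm⟩ := hodd
    have h6 : σ ^ orderOf a = 1 := by
      rw [hσ, ← map_pow, ← map_pow, pow_orderOf_eq_one, map_one, map_one]
    have h7 : ∀ k : ℕ, (σ ^ (2 * k)) i = i := by
      intro k
      induction k with
      | zero => rfl
      | succ k ih =>
        rw [show 2 * (k + 1) = 2 * k + 1 + 1 by ring, pow_succ, pow_succ, Equiv.Perm.mul_apply, Equiv.Perm.mul_apply,
          h4, h5, ih]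
    rw [hm, pow_succ', ] at h6
    have h8 := Equiv.congr_fun h6 i
    rw [Equiv.Perm.mul_apply, h7, h4] at h8
    exact hij h8.symm
  have hA4 : σ.symm j = j := by
    rcases hA2 with h3 | h3
    · exact absurd (h3.trans hA3.symm) hji
    · exact h3
  constructor
  · rw [mem_stab]
    intro x
    show θ (φ a x i) = θ (x i)
    have h2 := hst (Pi.mulSingle i (x i))
    rw [hval, hval, hA3, hA4, Pi.mulSingle_eq_same, Pi.mulSingle_eq_of_ne hij.symm, map_one] at h2
    rw [hval, hA3]
    exact mul_right_cancel₀ h1' h2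
  · rw [mem_stab]
    intro x
    show θ' (φ a x j) = θ' (x j)
    have h2 := hst (Pi.mulSingle j (x j))
    rw [hval, hval, hA3, hA4, Pi.mulSingle_eq_same, Pi.mulSingle_eq_of_ne hij, map_one] at h2
    rw [hval, hA4]
    exact mul_left_cancel₀ h1 h2

include hT in
/-- **Small orbits on the characters of a power of a simple group.** -/
theorem nab_aux (hA : IsPGroup p A) (hp2 : p ≠ 2) (hcop : ¬ p ∣ Nat.card T) (hCC : Cfsg.Agent.H988.CopCyc.CC T)
    (hφ : Function.Injective φ) (hS : Small p φ) : Nat.card A ≤ p := by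
  have hbot : ∀ a : A, (∀ i, a ∈ Cc φ i) → a = 1 := by
    intro a ha
    apply hφ
    rw [map_one]
    have h1 : (φ a).toMonoidHom = MonoidHom.id (ι → T) := AutPow.hom_ext fun i t => ha i t
    ext x : 1
    exact DFunLike.congr_fun h1 x
  by_cases h0 : ∀ i, Cc φ i = ⊤
  · have h1 : Subsingleton A := ⟨fun a b => by
      rw [hbot a fun i => h0 i ▸ mem_top _, hbot b fun i => h0 i ▸ mem_top _]⟩
    have h2 : Nat.card A = 1 := Nat.card_unique
    have := hp.out.one_lt
    omega
  push Not at h0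
  obtain ⟨i, hi⟩ := h0
  obtain ⟨θ, hθ, hne, hst, hidx⟩ := exists_theta hT φ hA hcop hCC hS hi
  by_cases h1 : Cc φ i = ⊥
  · rw [h1, index_bot] at hidx
    exact hidx.le
  exfalso
  obtain ⟨a, ha⟩ := (Cc φ i).ne_bot_iff_exists_ne_one.1 h1
  obtain ⟨j, hj⟩ : ∃ j, (a : A) ∉ Cc φ j := by
    by_contra hcon
    push Not at hcon
    exact ha (Subtype.ext (hbot a hcon))
  have hij : i ≠ j := by
    rintro rfl
    exact hj a.2
  obtain ⟨θ', hθ', hne', hst', -⟩ := exists_theta hT φ hA hcop hCC hS (i := j) (fun h2 => hj (h2 ▸ mem_top _))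
  have hle : stab φ (fun x => θ (x i) * θ' (x j)) < Cc φ i := by
    have hodd : ∀ b : A, Odd (orderOf b) := by
      intro b
      obtain ⟨k, hk⟩ := hA b
      exact ((hp.out.odd_of_ne_two hp2).pow (n := k)).of_dvd_nat (orderOf_dvd_of_pow_eq_one hk)
    refine lt_of_le_of_ne (fun b hb => ?_) (fun h2 => ?_)
    · exact hst ▸ (stab_pair hT φ hij hθ hne hθ' hne' (hodd b) hb).1
    · apply hj
      rw [← hst']
      refine (stab_pair hT φ hij hθ hne hθ' hne' (hodd a) ?_).2
      rw [h2]
      exact a.2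
  have h2 := hS _ (isIrr_pair hij hθ hθ')
  have h3 := index_strictAnti hle
  omega

end power

end Cfsg.Agent.H510.Jump
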